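import Mathlib.Algebra.Colimit.Module
import Mathlib.Algebra.Algebra.RestrictScalars
import Mathlib.Algebra.MvPolynomial.Basic
import Mathlib.Algebra.MvPolynomial.Division
import Mathlib.LinearAlgebra.FreeModule.Basic
import Mathlib.LinearAlgebra.Finsupp.LSum
import Mathlib.LinearAlgebra.FreeModule.Finite.Basic
import Mathlib.RingTheory.MvPolynomial.Ideal

/-!
# The direct limit of `A[T]/(T_i ^ n)` along multiplication by `∏ T_i` is free over `A`
-/

set_option autoImplicit false

universe u

namespace K852.LimFree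

open MvPolynomial

variable {A : Type u} [CommRing A] {σ : Type*} [Fintype σ]

/-- The constant exponent. -/
noncomputable def cst (σ : Type*) [Fintype σ] (k : ℕ) : σ →₀ ℕ := Finsupp.equivFunOnFinite.symm fun _ => k

@[simp] theorem cst_apply (k : ℕ) (i : σ) : cst σ k i = k := rfl

/-- The exponent `n - 1 - e`. -/
noncomputable def cp (n : ℕ) (e : σ →₀ ℕ) : σ →₀ ℕ :=
  Finsupp.equivFunOnFinite.symm fun i => n - 1 - e i

@[simp] theorem cp_apply (n : ℕ) (e : σ →₀ ℕ) (i : σ) : cp n e i = n - 1 - e i := rfl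

/-- A bound for the exponents. -/
noncomputable def N (e : σ →₀ ℕ) : ℕ := ∑ i, e i + 1

theorem lt_N (e : σ →₀ ℕ) (i : σ) : e i < N e := by
  rw [N, Nat.lt_succ_iff]
  exact Finset.single_le_sum (f := fun i => e i) (fun _ _ => Nat.zero_le _) (Finset.mem_univ i)

theorem cst_add_cp {n m : ℕ} (h : n ≤ m) (e : σ →₀ ℕ) (he : ∀ i, e i < n) :
    cst σ (m - n) + cp n e = cp m e := by
  ext i
  rw [Finsupp.add_apply, cst_apply, cp_apply, cp_apply]
  have := he i
  omega

theorem prod_pow (k : ℕ) : (∏ i : σ, (X i : MvPolynomial σ A) ^ k) = monomial (cst σ k) 1 := by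
  rw [monomial_eq, C_1, one_mul, Finsupp.prod_fintype _ _ (by simp)]
  rfl

omit [Fintype σ] in
theorem coeff_eq_zero_of_mem {n : ℕ} {p : MvPolynomial σ A}
    (hp : p ∈ Ideal.span (Set.range fun i : σ => (X i : MvPolynomial σ A) ^ n)) (u : σ →₀ ℕ)
    (hu : ∀ i, u i < n) : coeff u p = 0 := by
  have h1 : (Set.range fun i : σ => (X i : MvPolynomial σ A) ^ n) =
      (fun s : σ →₀ ℕ => monomial s (1 : A)) '' (Set.range fun i => Finsupp.single i n) := by
    rw [← Set.range_comp]
    congr 1
    funext i
    simp [X_pow_eq_monomial]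
  rw [h1, mem_ideal_span_monomial_image] at hp
  by_contra h
  obtain ⟨_, ⟨i, rfl⟩, hi⟩ := hp u (mem_support_iff.2 h)
  have := hi i
  rw [Finsupp.single_eq_same] at this
  exact absurd (hu i) (not_lt.2 this)

omit [Fintype σ] in
theorem monomial_mem {n : ℕ} {u : σ →₀ ℕ} (i : σ) (hi : n ≤ u i) (a : A) :
    monomial u a ∈ Ideal.span (Set.range fun i : σ => (X i : MvPolynomial σ A) ^ n) := by
  have h1 : monomial u a = monomial (u - Finsupp.single i n) a * X i ^ n := by
    rw [X_pow_eq_monomial, monomial_mul, mul_one]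
    congr 1
    rw [tsub_add_cancel_of_le]
    rw [Finsupp.single_le_iff]
    exact hi
  rw [h1]
  exact Ideal.mul_mem_left _ _ (Ideal.subset_span ⟨i, rfl⟩)

variable {G : ℕ → Type u} [∀ n, AddCommGroup (G n)] [∀ n, Module (MvPolynomial σ A) (G n)]
  (f : ∀ n m : ℕ, n ≤ m → G n →ₗ[MvPolynomial σ A] G m)
  (hf : ∀ (n m l : ℕ) (h : n ≤ m) (h' : m ≤ l) (x : G n), f m l h' (f n m h x) = f n l (h.trans h') x)
  (hf' : ∀ (n : ℕ) (x : G n), f n n le_rfl x = x)
  (π : ∀ n, MvPolynomial σ A →ₗ[MvPolynomial σ A] G n)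
  (hπ : ∀ n, Function.Surjective (π n))
  (hker : ∀ n x, π n x = 0 ↔ x ∈ Ideal.span (Set.range fun i : σ => (X i : MvPolynomial σ A) ^ n))
  (htr : ∀ (n m : ℕ) (h : n ≤ m) x, f n m h (π n x) = π m ((∏ i : σ, X i ^ (m - n)) * x))

/-- The limit. -/
abbrev Lim : Type u := Module.DirectLimit G f

/-- The class map. -/
noncomputable def cl (n : ℕ) : MvPolynomial σ A →ₗ[MvPolynomial σ A] Lim f :=
  Module.DirectLimit.of _ ℕ G f n ∘ₗ π n

include htr in
theorem cl_eq {n m : ℕ} (h : n ≤ m) (x : MvPolynomial σ A) :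
    cl f π n x = cl f π m ((∏ i : σ, X i ^ (m - n)) * x) := by
  change Module.DirectLimit.of _ ℕ G f n (π n x) = Module.DirectLimit.of _ ℕ G f m (π m _)
  rw [← htr n m h, Module.DirectLimit.of_f]

include htr in
theorem cl_monomial {n m : ℕ} (h : n ≤ m) (e : σ →₀ ℕ) (he : ∀ i, e i < n) (a : A) :
    cl f π n (monomial (cp n e) a) = cl f π m (monomial (cp m e) a) := by
  rw [cl_eq f π htr h, prod_pow, monomial_mul, one_mul, cst_add_cp h e he]

/-- The comparison map. -/
noncomputable def Psi : ((σ →₀ ℕ) →₀ A) →ₗ[A] RestrictScalars A (MvPolynomial σ A) (Lim f) :=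
  Finsupp.lsum A fun e =>
    { toFun := fun a => cl f π (N e) (monomial (cp (N e) e) a)
      map_add' := fun a b => by rw [map_add, map_add]; rfl
      map_smul' := fun a b => by
        have h1 : monomial (cp (N e) e) (a • b) = (C a : MvPolynomial σ A) • monomial (cp (N e) e) b := by
          rw [smul_eq_mul, smul_eq_mul, C_mul_monomial]
        rw [h1, map_smul]
        rfl }

theorem Psi_single (e : σ →₀ ℕ) (a : A) :
    Psi f π (Finsupp.single e a) = cl f π (N e) (monomial (cp (N e) e) a) := by
  rw [Psi, Finsupp.lsum_single]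
  rfl

include hπ hker htr in
theorem Psi_surjective : Function.Surjective (Psi f π) := by
  intro z
  obtain ⟨n, w, hw⟩ := Module.DirectLimit.exists_of (z : Lim f)
  obtain ⟨s, rfl⟩ := hπ n w
  have key : ∀ s : MvPolynomial σ A, ∃ y, Psi f π y = cl f π n s := by
    intro s
    induction s using MvPolynomial.induction_on' with
    | add p q hp hq =>
      obtain ⟨y, hy⟩ := hp
      obtain ⟨z, hz⟩ := hq
      refine ⟨y + z, ?_⟩
      rw [map_add, hy, hz, map_add]
      rfl
    | monomial v a =>
      by_cases hv : ∃ i, n ≤ v i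
      · obtain ⟨i, hi⟩ := hv
        have h1 : cl f π n (monomial v a) = 0 := by
          change Module.DirectLimit.of _ ℕ G f n (π n _) = 0
          rw [(hker n _).2 (monomial_mem i hi a), map_zero]
        exact ⟨0, by rw [h1, map_zero]; rfl⟩
      · push Not at hv
        let e : σ →₀ ℕ := cp n v
        have he : cp n e = v := by
          ext i
          have := hv i
          simp only [e, cp_apply]
          omega
        have he' : ∀ i, e i < n := by
          intro i
          have := hv i
          simp only [e, cp_apply]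
          omega
        refine ⟨Finsupp.single e a, ?_⟩
        rw [Psi_single, cl_monomial f π htr (le_max_left (N e) n) e (lt_N e) a,
          ← cl_monomial f π htr (le_max_right (N e) n) e he' a, he]
  obtain ⟨y, hy⟩ := key s
  exact ⟨y, hy.trans hw⟩

include hf hf' hker htr in
theorem Psi_injective : Function.Injective (Psi f π) := by
  rw [injective_iff_map_eq_zero]
  classical
  intro v hv
  by_contra hne
  have h0 : ∀ n, (∀ e ∈ v.support, N e ≤ n) →
      Psi f π v = cl f π n (∑ e ∈ v.support, monomial (cp n e) (v e)) := by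
    intro n hn
    conv_lhs => rw [← Finsupp.sum_single v, Finsupp.sum, map_sum]
    rw [map_sum]
    refine Finset.sum_congr rfl fun e he => ?_
    rw [Psi_single, cl_monomial f π htr (hn e he) e (lt_N e)]
  let n := v.support.sup N
  have hn : ∀ e ∈ v.support, N e ≤ n := fun e he => Finset.le_sup he
  have h1 := h0 n hn
  rw [hv] at h1
  have hds : DirectedSystem G (fun i j h => f i j h) :=
    ⟨fun i x => hf' i x, fun _ _ _ h h' x => hf _ _ _ h h' x⟩
  obtain ⟨m, hm, h2⟩ := Module.DirectLimit.of.zero_exact (R := MvPolynomial σ A) (f := f) h1.symm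
  rw [htr, hker] at h2
  have h3 : (∏ i : σ, (X i : MvPolynomial σ A) ^ (m - n)) *
      ∑ e ∈ v.support, monomial (cp n e) (v e) = ∑ e ∈ v.support, monomial (cp m e) (v e) := by
    rw [prod_pow, Finset.mul_sum]
    refine Finset.sum_congr rfl fun e he => ?_
    rw [monomial_mul, one_mul, cst_add_cp hm e fun i => (lt_N e i).trans_le (hn e he)]
  rw [h3] at h2
  obtain ⟨e, he⟩ := Finsupp.support_nonempty_iff.2 hne
  have h4 := coeff_eq_zero_of_mem h2 (cp m e) (fun i => by
    rw [cp_apply]
    have := ((lt_N e i).trans_le (hn e he)).trans_le hm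
    omega)
  rw [coeff_sum, Finset.sum_eq_single e] at h4
  · rw [coeff_monomial, if_pos rfl] at h4
    exact (Finsupp.mem_support_iff.1 he) h4
  · intro e' he' hee'
    rw [coeff_monomial, if_neg]
    intro h5
    apply hee'
    ext i
    have h6 := DFunLike.congr_fun h5 i
    rw [cp_apply, cp_apply] at h6
    have h7 := ((lt_N e i).trans_le (hn e he)).trans_le hm
    have h8 := ((lt_N e' i).trans_le (hn e' he')).trans_le hm
    omega
  · intro h
    exact absurd he h

include hf hf' hπ hker htr in
theorem free : Module.Free A (RestrictScalars A (MvPolynomial σ A) (Lim f)) :=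
  Module.Free.of_equiv (LinearEquiv.ofBijective (Psi f π)
    ⟨Psi_injective f hf hf' π hker htr, Psi_surjective f π hπ hker htr⟩)

end K852.LimFree
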