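import Groth.Agent.Sga67.TorKoszul

/-!
# Transition maps on the top Koszul cohomology
-/

set_option autoImplicit false
universe u

open CategoryTheory CategoryTheory.Limits CochainComplex HomComplex CohIII

namespace K852.TopTrans

open Groth.Agent.Sga67.KoszulFun Groth.Agent.Sga67.KoszulH1 Groth.Agent.Ega3A.Koszul
  Groth.Agent.Sga67.TorKoszul

variable {A : Type u} [CommRing A]

theorem trans_topMap (M : ModuleCat.{u} A) (n m : ℕ) (h : n ≤ m) (fs : List A) :
    (koszulTrans M n m h fs).f 0 ≫ topMap M (fs.map (· ^ m)) =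
      topMap M (fs.map (· ^ n)) ≫ ((fs.map (· ^ (m - n))).prod • 𝟙 M) := by
  induction fs with
  | nil =>
    simp only [List.map_nil, List.prod_nil, one_smul]
    change (𝟙 (koszulCx M []) : koszulCx M [] ⟶ koszulCx M []).f 0 ≫ _ = _ ≫ 𝟙 M
    rw [HomologicalComplex.id_f]
    exact (Category.id_comp _).trans (Category.comp_id _).symm
  | cons f fs ih =>
    have key : (mappingCone.map (f ^ n • 𝟙 (koszulCx M (fs.map (· ^ n))))
        (f ^ m • 𝟙 (koszulCx M (fs.map (· ^ m)))) (koszulTrans M n m h fs)
        (f ^ (m - n) • koszulTrans M n m h fs) (by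
          simp only [Linear.smul_comp, Linear.comp_smul, Category.id_comp, Category.comp_id,
            smul_smul, ← pow_add, Nat.sub_add_cancel h])).f 0 ≫
        (mappingCone.snd (f ^ m • 𝟙 (koszulCx M (fs.map (· ^ m))))).v 0 0 (add_zero 0) ≫
          topMap M (fs.map (· ^ m)) =
        ((mappingCone.snd (f ^ n • 𝟙 (koszulCx M (fs.map (· ^ n))))).v 0 0 (add_zero 0) ≫
          topMap M (fs.map (· ^ n))) ≫
            (((f :: fs).map (· ^ (m - n))).prod • 𝟙 M) := by
      rw [map_snd_assoc, HomologicalComplex.smul_f_apply, Linear.smul_comp, ih, List.map_cons,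
        List.prod_cons]
      simp only [Category.assoc, Linear.comp_smul, Category.comp_id, smul_smul]
    exact key

theorem qMap_trans (M : ModuleCat.{u} A) (n m : ℕ) (h : n ≤ m) (fs : List A) :
    qMap M (fs.map (· ^ n)) ≫ HomologicalComplex.homologyMap (koszulTrans M n m h fs) 0 =
      (fs.map (· ^ (m - n))).prod • qMap M (fs.map (· ^ m)) := by
  have h0 : (fs.map (· ^ (m - n))).prod • qMap M (fs.map (· ^ m)) =
      ((fs.map (· ^ (m - n))).prod • 𝟙 M) ≫ qMap M (fs.map (· ^ m)) := by
    rw [Linear.smul_comp, Category.id_comp]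
  rw [h0, qMap, qMap, ← cancel_epi (topMap M (fs.map (· ^ n))), ← Category.assoc
    (topMap M (fs.map (· ^ n))) ((fs.map (· ^ (m - n))).prod • 𝟙 M), ← trans_topMap M n m h fs]
  simp only [Category.assoc, IsIso.hom_inv_id_assoc]
  rw [← cancel_mono ((koszulCx M (fs.map (· ^ m))).isoHomologyι 0 1 (by simp)
    (d_zero_one M (fs.map (· ^ m)))).hom]
  simp only [Category.assoc, Iso.inv_hom_id, Category.comp_id]
  have h1 : ((koszulCx M (fs.map (· ^ n))).isoHomologyι 0 1 (by simp)
      (d_zero_one M (fs.map (· ^ n)))).inv ≫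
      HomologicalComplex.homologyMap (koszulTrans M n m h fs) 0 ≫
      ((koszulCx M (fs.map (· ^ m))).isoHomologyι 0 1 (by simp)
        (d_zero_one M (fs.map (· ^ m)))).hom =
      HomologicalComplex.opcyclesMap (koszulTrans M n m h fs) 0 := by
    rw [Iso.inv_comp_eq, HomologicalComplex.isoHomologyι_hom, HomologicalComplex.isoHomologyι_hom]
    exact HomologicalComplex.homologyι_naturality _ _
  rw [h1]
  exact HomologicalComplex.p_opcyclesMap _ _

/-- The presentations of the top Koszul cohomologies of the powers of `fs`. -/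
theorem exists_pres (M : ModuleCat.{u} A) (fs : List A) (q : ℤ) (hq : q = 0) :
    ∃ π : ∀ n : ℕ, M →ₗ[A] ((koszulCx M (fs.map (· ^ n))).homology q : ModuleCat.{u} A),
      (∀ n, Function.Surjective (π n)) ∧
      (∀ n x, π n x = 0 ↔ x ∈ (Ideal.span {y | y ∈ fs.map (· ^ n)} • ⊤ : Submodule A M)) ∧
      ∀ (n m : ℕ) (h : n ≤ m) x,
        (HomologicalComplex.homologyMap (koszulTrans M n m h fs) q).hom (π n x) =
          π m ((fs.map (· ^ (m - n))).prod • x) := by
  subst hq
  refine ⟨fun n => (qMap M (fs.map (· ^ n))).hom, fun n => qMap_surjective M _, fun n x => ?_,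
    fun n m h x => ?_⟩
  · rw [← ker_qMap]; rfl
  · rw [map_smul]
    exact congrArg (fun g => g.hom x) (qMap_trans M n m h fs)

end K852.TopTrans
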